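import Mathlib
import Cfsg.Agent.S3331
import Cfsg.Agent.Lib.ThreeSelfCentral.Classes
import Cfsg.Agent.Lib.Coprime.ThompsonFull
import Cfsg.Agent.Lib.Coprime.Generation
import Cfsg.Agent.Lib.LinGroup.Simple
import Cfsg.Agent.Lib.CIT.PrimeOrders

/-!
# One class of elements of order three, self-centralising Sylow 3-subgroup of order nine: locals

An element x of order three acts without fixed points on every 3′-subgroup D it normalises; the
normaliser of such a D is a 3′-group extended by a group of order 3 or 6, or an elementary abelian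
2-group extended by the alternating group of degree five.
-/

set_option autoImplicit false
set_option linter.style.haveILetI false
set_option synthInstance.maxSize 2000

namespace Cfsg.Agent.Lib.OneClassNine

open Subgroup
open Cfsg.Agent.Lib

variable {G : Type*} [Group G]

/-- D has order prime to three and is normalised by x. -/
def Inv (x : G) (D : Subgroup G) : Prop := ¬ 3 ∣ Nat.card D ∧ x ∈ normalizer (D : Set G)

/-- The setting: all elements of order three are conjugate. -/
structure Hyp (P : Sylow 3 G) : Prop where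
  data : ThreeSelfCentral.Data P
  conj : ∀ u v : G, orderOf u = 3 → orderOf v = 3 → IsConj u v

theorem pow_three_of_orderOf {x : G} (hx : orderOf x = 3) : x ^ 3 = 1 := hx ▸ pow_orderOf_eq_one x

theorem ne_one_of_orderOf {x : G} (hx : orderOf x = 3) : x ≠ 1 := fun e => by
  rw [e, orderOf_one] at hx; omega

theorem inv_eq_sq {x : G} (hx : orderOf x = 3) : x⁻¹ = x * x :=
  inv_eq_of_mul_eq_one_right (by rw [← pow_three_of_orderOf hx, pow_three])

theorem inv_ne_self {x : G} (hx : orderOf x = 3) : x⁻¹ ≠ x := fun e =>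
  ne_one_of_orderOf hx (mul_left_cancel ((inv_eq_sq hx).symm.trans (e.trans (mul_one x).symm)))

theorem conj_mem_of_mem_normalizer {D : Subgroup G} {g d : G} (hg : g ∈ normalizer (D : Set G))
    (hd : d ∈ D) : g * d * g⁻¹ ∈ D :=
  ((mem_normalizer_iff.1 hg) d).1 hd

theorem mem_normalizer_of_conj_mem [Finite G] {D : Subgroup G} {g : G}
    (hg : ∀ d ∈ D, g * d * g⁻¹ ∈ D) : g ∈ normalizer (D : Set G) := by
  have heq : D.map (MulAut.conj g).toMonoidHom = D :=
    eq_of_le_of_card_ge (by rintro _ ⟨d, hd, rfl⟩; exact hg d hd)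
      (by rw [card_map_of_injective (MulAut.conj g).injective])
  rw [mem_normalizer_iff]
  intro d
  refine ⟨hg d, fun hd => ?_⟩
  rw [← heq] at hd
  obtain ⟨e, he, hed⟩ := hd
  exact (MulAut.conj g).injective hed ▸ he

/-- An element of order three acting without fixed points. -/
theorem card_mod_three [Finite G] {x : G} (hx : x ^ 3 = 1) {A : Subgroup G}
    (hxA : x ∈ normalizer (A : Set G)) (hfix : ∀ a ∈ A, Commute a x → a = 1) :
    Nat.card A % 3 = 1 := by
  haveI : Fact (Nat.Prime 3) := ⟨Nat.prime_three⟩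
  have hle : zpowers x ≤ normalizer (A : Set G) := zpowers_le.2 hxA
  letI : MulAction (zpowers x) A :=
    MulAction.compHom A ((A.normalizerMonoidHom).comp (inclusion hle))
  have hsmul : ∀ (s : zpowers x) (a : A), ((s • a : A) : G) = (s : G) * a * (s : G)⁻¹ :=
    fun s a => rfl
  have hp : IsPGroup 3 (zpowers x) := fun g => ⟨1, by
    obtain ⟨k, hk⟩ := mem_zpowers_iff.1 g.2
    refine Subtype.ext ?_
    rw [pow_one, SubmonoidClass.coe_pow, ← hk, ← zpow_natCast, ← zpow_mul, mul_comm, zpow_mul,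
      zpow_natCast, hx, one_zpow, OneMemClass.coe_one]⟩
  have h := hp.card_modEq_card_fixedPoints (α := A)
  have h1 : MulAction.fixedPoints (zpowers x) A = {1} := by
    ext a
    rw [Set.mem_singleton_iff]
    refine ⟨fun ha => Subtype.ext (hfix a a.2 ?_), fun ha s => ?_⟩
    · have h0 := congrArg Subtype.val (ha ⟨x, mem_zpowers x⟩)
      rw [hsmul] at h0
      show (a : G) * x = x * a
      calc (a : G) * x = x * a * x⁻¹ * x := by rw [h0]
        _ = x * a := inv_mul_cancel_right _ _
    · subst ha; exact Subtype.ext (by rw [hsmul]; simp)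
  rw [Nat.card_coe_set_eq, h1, Set.ncard_singleton] at h
  exact h

variable [Finite G] {P : Sylow 3 G}

theorem Hyp.exists_mem (h : Hyp P) {x : G} (hx : orderOf x = 3) :
    ∃ b ∈ (P : Subgroup G), b ≠ 1 ∧ IsConj b x := by
  have : Nontrivial (P : Subgroup G) := Finite.one_lt_card_iff_nontrivial.1 (by rw [h.data.card]; norm_num)
  obtain ⟨⟨b, hb⟩, hb1⟩ := exists_ne (1 : (P : Subgroup G))
  have hb1' : b ≠ 1 := fun e => hb1 (Subtype.ext e)
  exact ⟨b, hb, hb1', h.conj b x (h.data.isConj_inv_iff_orderOf hb hb1') hx⟩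

theorem Hyp.cube (h : Hyp P) {x y : G} (hx : orderOf x = 3) (hc : Commute x y) : y ^ 3 = 1 := by
  obtain ⟨b, hb, hb1, hbx⟩ := h.exists_mem hx
  obtain ⟨g, rfl⟩ := isConj_iff.1 hbx
  have hm : g⁻¹ * y * g ∈ (P : Subgroup G) := by
    refine h.data.mem_of_commute hb hb1 ?_
    have := Commute.map hc (MulAut.conj g⁻¹).toMonoidHom
    simpa [mul_assoc] using this
  have := h.data.exp _ hm
  calc y ^ 3 = g * (g⁻¹ * y * g) ^ 3 * g⁻¹ := by
        rw [show g⁻¹ * y * g = g⁻¹ * y * (g⁻¹)⁻¹ by rw [inv_inv], conj_pow]; group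
    _ = 1 := by rw [this]; group

theorem Hyp.card_centralizer (h : Hyp P) {x : G} (hx : orderOf x = 3) :
    Nat.card (centralizer ({x} : Set G)) = 9 := by
  haveI := Fintype.ofFinite G
  obtain ⟨b, hb, hb1, hbx⟩ := h.exists_mem hx
  rw [Chars.card_centralizer_eq_of_isConj hbx.symm, h.data.cent b hb hb1, h.data.card]

theorem Hyp.fixed_one (h : Hyp P) {x : G} (hx : orderOf x = 3) {D : Subgroup G}
    (hD : ¬ 3 ∣ Nat.card D) {d : G} (hd : d ∈ D) (hc : Commute d x) : d = 1 := by
  haveI : Fact (Nat.Prime 3) := ⟨Nat.prime_three⟩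
  by_contra hd1
  exact hD ((orderOf_eq_prime (h.cube hx hc.symm) hd1) ▸ D.orderOf_dvd_natCard hd)

theorem Hyp.card_inv (h : Hyp P) {x : G} (hx : orderOf x = 3) {D : Subgroup G} (hD : Inv x D) :
    Nat.card D % 3 = 1 :=
  card_mod_three (pow_three_of_orderOf hx) hD.2 fun _ hd hc => h.fixed_one hx hD.1 hd hc

theorem Hyp.isNilpotent (h : Hyp P) {x : G} (hx : orderOf x = 3) {D : Subgroup G} (hD : Inv x D) :
    Group.IsNilpotent D := by
  let φ : D ≃* D := D.normalizerMonoidHom ⟨x, hD.2⟩
  have hφ : ∀ d : D, ((φ d : D) : G) = x * d * x⁻¹ := fun d => rfl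
  refine Coprime.isNilpotent_of_fixedPointFree' φ (fun d hd => Subtype.ext ?_) Nat.prime_three ?_
  · have h0 : x * (d : G) * x⁻¹ = d := (hφ d).symm.trans (congrArg Subtype.val hd)
    refine h.fixed_one hx hD.1 d.2 ?_
    show (d : G) * x = x * d
    calc (d : G) * x = x * d * x⁻¹ * x := by rw [h0]
      _ = x * d := inv_mul_cancel_right _ _
  · show (D.normalizerMonoidHom ⟨x, hD.2⟩) ^ 3 = 1
    rw [← map_pow, show (⟨x, hD.2⟩ : normalizer (D : Set G)) ^ 3 = 1 from
      Subtype.ext (by simp [pow_three_of_orderOf hx]), map_one]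

/-- Every element of the coset of x is conjugate to x. -/
theorem Hyp.coset_conj (h : Hyp P) {x : G} (hx : orderOf x = 3) {F : Subgroup G} (hF : Inv x F)
    {z : G} (hz : x⁻¹ * z ∈ F) : ∃ f ∈ F, f * x * f⁻¹ = z := by
  have hconj : ∀ f ∈ F, x⁻¹ * (f * x * f⁻¹) ∈ F := fun f hf => by
    have := conj_mem_of_mem_normalizer (inv_mem hF.2) hf
    rw [inv_inv] at this
    rw [show x⁻¹ * (f * x * f⁻¹) = x⁻¹ * f * x * f⁻¹ by group]
    exact mul_mem this (inv_mem hf)
  let φ : F → F := fun f => ⟨x⁻¹ * ((f : G) * x * (f : G)⁻¹), hconj f f.2⟩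
  have hφ : Function.Injective φ := by
    intro a b hab
    have h0 : (a : G) * x * (a : G)⁻¹ = b * x * (b : G)⁻¹ :=
      mul_left_cancel (congrArg Subtype.val hab)
    refine Subtype.ext (inv_mul_eq_one.1 (h.fixed_one hx hF.1 (mul_mem (inv_mem b.2) a.2) ?_)).symm
    show (b : G)⁻¹ * a * x = x * ((b : G)⁻¹ * a)
    calc (b : G)⁻¹ * a * x = (b : G)⁻¹ * (a * x * (a : G)⁻¹) * a := by group
      _ = x * ((b : G)⁻¹ * a) := by rw [h0]; group
  obtain ⟨f, hf⟩ := (Finite.injective_iff_surjective.1 hφ) ⟨_, hz⟩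
  exact ⟨f, f.2, mul_left_cancel (congrArg Subtype.val hf)⟩

/-- Two independent elements of order three normalise only the trivial 3′-group. -/
theorem Hyp.pair_bot (h : Hyp P) {x y : G} (hx : orderOf x = 3) (hxy : Commute x y)
    (hy : y ∉ zpowers x) {D : Subgroup G} (hD : Inv x D) (hyD : y ∈ normalizer (D : Set G)) :
    D = ⊥ := by
  refine le_bot_iff.1 (Coprime.le_of_pair (a := y) (b := x) Nat.prime_three
    ((Nat.Prime.coprime_iff_not_dvd Nat.prime_three).2 hD.1)
    ((closure_le _).2 (Set.insert_subset hyD (Set.singleton_subset_iff.2 hD.2))) hxy.symm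
    (h.cube hx hxy) (pow_three_of_orderOf hx) (ne_one_of_orderOf hx) hy ?_)
  intro s hs hs1 d hd
  haveI := Coprime.isMulCommutative_closure_pair hxy.symm
  haveI : Fact (Nat.Prime 3) := ⟨Nat.prime_three⟩
  obtain ⟨hdD, hdc⟩ := Subgroup.mem_inf.1 hd
  have hsx : Commute x s := congrArg Subtype.val
    ((IsMulCommutative.is_comm (M := closure ({y, x} : Set G))).comm
      ⟨x, subset_closure (Set.mem_insert_of_mem _ rfl)⟩ ⟨s, hs⟩)
  exact (h.fixed_one (orderOf_eq_prime (h.cube hx hsx) hs1) hD.1 hdD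
    (mem_centralizer_singleton_iff.1 hdc))

theorem small_quot {Q : Type*} [Group Q] [Finite Q]
    (hQ : Nat.card Q = 3 ∨ Nonempty (Q ≃* Equiv.Perm (Fin 3))) (H : Subgroup Q)
    (h3 : ¬ 3 ∣ Nat.card H) {y : Q} (hy3 : y ^ 3 = 1) (hy1 : y ≠ 1)
    (hn : ∀ c ∈ H, y * c * y⁻¹ ∈ H) : H = ⊥ := by
  rw [eq_bot_iff_card]
  have hd := Subgroup.card_subgroup_dvd_card H
  rcases hQ with h | ⟨⟨e⟩⟩
  · rw [h, Nat.dvd_prime Nat.prime_three] at hd
    rcases hd with hd | hd
    · exact hd
    · exact absurd (dvd_of_eq hd.symm) h3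
  · rw [Nat.card_congr e.toEquiv, Nat.card_perm, Nat.card_fin] at hd
    rcases (show Nat.card H = 1 ∨ Nat.card H = 2 by
      have h1 := Nat.le_of_dvd (by decide) hd
      interval_cases h : Nat.card H <;> simp_all (config := { decide := true }) [Nat.factorial]) with h | h
    · exact h
    · exfalso
      obtain ⟨c, hc1, hcu⟩ := (Nat.card_eq_two_iff' (1 : H)).1 h
      have hcc : (c : Q) * c = 1 := by
        by_contra hne
        have h2 := hcu (c * c) (fun e => hne (congrArg Subtype.val e))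
        exact hc1 (mul_left_cancel (h2.trans (mul_one c).symm))
      have hyc : y * (c : Q) * y⁻¹ = c := by
        have h2 := hcu ⟨_, hn c c.2⟩ (fun e => hc1 (Subtype.ext (by
          have e' := congrArg Subtype.val e
          simp only [OneMemClass.coe_one] at e' ⊢
          exact (mul_eq_left.1 (mul_inv_eq_one.1 e')))))
        exact congrArg Subtype.val h2
      have key : ∀ u v : Equiv.Perm (Fin 3), u ^ 3 = 1 → v * v = 1 → u * v * u⁻¹ = v →
          u = 1 ∨ v = 1 := by decide +kernel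
      rcases key (e y) (e c) (by rw [← map_pow, hy3, map_one]) (by rw [← map_mul, hcc, map_one])
        (by rw [← map_inv, ← map_mul, ← map_mul, hyc]) with h0 | h0
      · exact hy1 (e.injective (h0.trans (map_one e).symm))
      · exact hc1 (Subtype.ext (e.injective (h0.trans (map_one e).symm)))

theorem alt_four (y : alternatingGroup (Fin 5)) : y ^ 3 = 1 → y ≠ 1 →
    ∃ a : alternatingGroup (Fin 5), a ≠ 1 ∧ a * a = 1 ∧ a * (y * a * y⁻¹) = (y * a * y⁻¹) * a ∧
      y * (y * a * y⁻¹) * y⁻¹ = a * (y * a * y⁻¹) := by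
  revert y; decide +kernel

theorem alt_not_ten {Q : Type*} [Group Q] [Finite Q] (e : Q ≃* alternatingGroup (Fin 5))
    (H : Subgroup Q) (hH : Nat.card H = 10) {y : Q} (hy3 : y ^ 3 = 1) (hy1 : y ≠ 1)
    (hn : y ∈ normalizer (H : Set Q)) : False := by
  haveI : Fact (Nat.Prime 3) := ⟨Nat.prime_three⟩
  haveI : IsSimpleGroup Q := e.isSimpleGroup
  have h60 : Nat.card Q = 60 := by
    rw [Nat.card_congr e.toEquiv, nat_card_alternatingGroup, Nat.card_fin]; rfl
  have hne : H ≠ ⊥ ∧ H ≠ ⊤ := ⟨fun he => by rw [he, card_bot] at hH; omega,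
    fun he => by rw [he, card_top] at hH; omega⟩
  have hN : normalizer (H : Set Q) ≠ ⊤ := SmallGroups.normalizer_ne_top hne.1 hne.2
  have h30 : 30 ∣ Nat.card (normalizer (H : Set Q)) := by
    refine Nat.Coprime.mul_dvd_of_dvd_of_dvd (m := 3) (n := 10) (by norm_num) ?_ ?_
    · exact (orderOf_eq_prime hy3 hy1) ▸ orderOf_dvd_natCard _ hn
    · exact hH ▸ card_dvd_of_le le_normalizer
  have hmul := (normalizer (H : Set Q)).index_mul_card
  have hQ' : ¬ IsMulCommutative Q := SmallGroups.not_isMulCommutative_of_not_prime (by rw [h60]; norm_num)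
  have hd := SmallGroups.two_mul_card_dvd_factorial hQ' hN
  have hle : (normalizer (H : Set Q)).index ≤ 2 := by
    have := Nat.le_of_dvd Nat.card_pos h30
    rw [h60] at hmul
    nlinarith
  rw [h60] at hd
  have := Nat.le_of_dvd (Nat.factorial_pos _) hd
  have := Nat.factorial_le hle
  simp only [Nat.factorial] at this
  omega

/-- The normaliser of a nontrivial x-invariant 3′-subgroup. -/
theorem Hyp.local_cases (h : Hyp P) {x : G} (hx : orderOf x = 3) {D : Subgroup G} (hD : Inv x D)
    (hne : D ≠ ⊥) :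
    (∃ F : Subgroup G, Inv x F ∧ F ≤ normalizer (D : Set G) ∧
      normalizer (D : Set G) ≤ normalizer (F : Set G) ∧ D ≤ F ∧
      (Nat.card (normalizer (D : Set G)) = 3 * Nat.card F ∨
        Nat.card (normalizer (D : Set G)) = 6 * Nat.card F ∧
        ∃ t ∈ normalizer (D : Set G), orderOf t = 2 ∧ t * x * t⁻¹ = x⁻¹) ∧
      ∀ (L : Subgroup G) (y : G), L ≤ normalizer (D : Set G) → ¬ 3 ∣ Nat.card L →
        y ∈ normalizer (D : Set G) → orderOf y = 3 → y ∈ normalizer (L : Set G) → L ≤ F) ∨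
    (5 ∣ Nat.card G ∧ IsPGroup 2 D ∧ ∃ A : Subgroup G, D ≤ A ∧ A ≤ normalizer (D : Set G) ∧
      Inv x A ∧ IsPGroup 2 A ∧ normalizer (D : Set G) ≤ normalizer (A : Set G) ∧
      Nat.card (normalizer (D : Set G)) = 60 * Nat.card A ∧
      (∃ B : Subgroup G, Inv x B ∧ A < B) ∧
      ∀ L : Subgroup G, Inv x L → A ≤ L → L ≤ normalizer (D : Set G) →
        Nat.card L = Nat.card A ∨ Nat.card L = 4 * Nat.card A) := by
  haveI : Fact (Nat.Prime 3) := ⟨Nat.prime_three⟩
  set M : Subgroup G := normalizer (D : Set G) with hM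
  have hxM : x ∈ M := hD.2
  let X : Subgroup M := zpowers (⟨x, hxM⟩ : M)
  have hox : orderOf (⟨x, hxM⟩ : M) = 3 := by rw [orderOf_mk]; exact hx
  have hXc : Nat.card X = 3 := by rw [Nat.card_zpowers, hox]
  have hC : centralizer (X : Set M) = X := by
    refine le_antisymm (fun y hy => ?_) (fun y hy => ?_)
    · have hc : Commute x (y : G) :=
        congrArg Subtype.val (mem_centralizer_iff.1 hy _ (mem_zpowers _))
      by_contra hyX
      refine hne (h.pair_bot hx hc (fun hy' => hyX ?_) hD y.2)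
      obtain ⟨k, hk⟩ := mem_zpowers_iff.1 hy'
      exact mem_zpowers_iff.2 ⟨k, Subtype.ext (by simpa using hk)⟩
    · obtain ⟨k, rfl⟩ := mem_zpowers_iff.1 hy
      rw [mem_centralizer_iff]
      intro s hs
      obtain ⟨l, rfl⟩ := mem_zpowers_iff.1 hs
      exact ((Commute.refl _).zpow_zpow l k).eq
  -- push a normal subgroup of M down to G
  have hpush : ∀ (N : Subgroup M), N.Normal → Nat.card (N.map M.subtype) = Nat.card N ∧
      N.map M.subtype ≤ M ∧ M ≤ normalizer ((N.map M.subtype : Subgroup G) : Set G) := by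
    intro N hN
    refine ⟨card_map_of_injective M.subtype_injective, map_subtype_le N, fun m hm => ?_⟩
    rw [mem_normalizer_iff]
    intro s
    constructor
    · rintro ⟨n, hn, rfl⟩
      exact ⟨⟨m, hm⟩ * n * ⟨m, hm⟩⁻¹, hN.conj_mem n hn _, by simp⟩
    · rintro ⟨n, hn, hns⟩
      refine ⟨⟨m, hm⟩⁻¹ * n * ⟨m, hm⟩, by simpa using hN.conj_mem n hn ⟨m, hm⟩⁻¹, ?_⟩
      simp only [coe_subtype, Subgroup.coe_mul, InvMemClass.coe_inv] at hns ⊢
      rw [hns]; group
  -- images in a quotient
  have himg : ∀ (N : Subgroup M) [N.Normal] (L : Subgroup G) (y : M), (y : G) ∈ normalizer (L : Set G) →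
      ∀ c ∈ (L.subgroupOf M).map (QuotientGroup.mk' N),
        (QuotientGroup.mk' N y) * c * (QuotientGroup.mk' N y)⁻¹ ∈ (L.subgroupOf M).map (QuotientGroup.mk' N) := by
    rintro N _ L y hy _ ⟨l, hl, rfl⟩
    exact ⟨y * l * y⁻¹, show ((y * l * y⁻¹ : M) : G) ∈ L from conj_mem_of_mem_normalizer hy hl,
      by simp⟩
  have hy1 : ∀ (N : Subgroup M) [N.Normal], ¬ 3 ∣ Nat.card N → ∀ y : M, orderOf (y : G) = 3 →
      QuotientGroup.mk' N y ≠ 1 ∧ QuotientGroup.mk' N y ^ 3 = 1 := by
    intro N _ hN y hy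
    rw [orderOf_coe] at hy
    refine ⟨fun e => hN ?_, by rw [← map_pow, pow_three_of_orderOf hy, map_one]⟩
    exact hy ▸ N.orderOf_dvd_natCard ((QuotientGroup.eq_one_iff y).1 e)
  have hdvd : ∀ (N : Subgroup M) [N.Normal] (L : Subgroup G), L ≤ M → ¬ 3 ∣ Nat.card L →
      ¬ 3 ∣ Nat.card ((L.subgroupOf M).map (QuotientGroup.mk' N)) := by
    intro N _ L hLM h3 hd
    refine h3 (hd.trans ((card_map_dvd _ _).trans ?_))
    rw [Nat.card_congr (subgroupOfEquivOfLe hLM).toEquiv]
  rcases Cfsg.Agent.S3331.result X hXc hC with ⟨N, hN, -, hcop, hQ⟩ | ⟨N, hN, -, hexp, ⟨e⟩⟩ | ⟨⟨e⟩⟩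
  · left
    have hN3 : ¬ 3 ∣ Nat.card N := (Nat.Prime.coprime_iff_not_dvd Nat.prime_three).1 hcop.symm
    obtain ⟨hcard, hFM, hMF⟩ := hpush N hN
    set F := N.map M.subtype with hF
    have hcrit : ∀ (L : Subgroup G) (y : G), L ≤ M → ¬ 3 ∣ Nat.card L → y ∈ M → orderOf y = 3 →
        y ∈ normalizer (L : Set G) → L ≤ F := by
      intro L y hLM h3 hyM hoy hyL l hl
      obtain ⟨hy1', hy3⟩ := hy1 N hN3 ⟨y, hyM⟩ hoy
      have hbot := small_quot hQ _ (hdvd N L hLM h3) hy3 hy1' (himg N L ⟨y, hyM⟩ hyL)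
      refine ⟨⟨l, hLM hl⟩, (QuotientGroup.eq_one_iff _).1 ?_, rfl⟩
      exact (eq_bot_iff_forall _).1 hbot _ ⟨⟨l, hLM hl⟩, hl, rfl⟩
    have hFinv : Inv x F := ⟨by rw [hcard]; exact hN3, hMF hxM⟩
    refine ⟨F, hFinv, hFM, hMF, hcrit D x le_normalizer hD.1 hxM hx hxM, ?_, hcrit⟩
    have hMcard := card_eq_card_quotient_mul_card_subgroup N
    rw [← hcard] at hMcard
    rcases hQ with h3 | ⟨⟨f⟩⟩
    · left; rw [hMcard, h3]
    · right
      refine ⟨by rw [hMcard, Nat.card_congr f.toEquiv, Nat.card_perm, Nat.card_fin]; rfl, ?_⟩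
      obtain ⟨hx1', hx3⟩ := hy1 N hN3 ⟨x, hxM⟩ hx
      set u := f (QuotientGroup.mk' N ⟨x, hxM⟩) with hu
      have key : ∀ u : Equiv.Perm (Fin 3), u ^ 3 = 1 → ∃ s, s * u * s⁻¹ = u⁻¹ := by decide +kernel
      obtain ⟨s, hs⟩ := key u (by rw [hu, ← map_pow, hx3, map_one])
      obtain ⟨m, hm⟩ := QuotientGroup.mk'_surjective N (f.symm s)
      have hz : x⁻¹⁻¹ * ((m : G) * x * (m : G)⁻¹) ∈ F := by
        refine ⟨⟨x, hxM⟩⁻¹⁻¹ * (m * ⟨x, hxM⟩ * m⁻¹), (QuotientGroup.eq_one_iff _).1 ?_, by simp⟩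
        show QuotientGroup.mk' N (⟨x, hxM⟩⁻¹⁻¹ * (m * ⟨x, hxM⟩ * m⁻¹)) = 1
        apply f.injective
        rw [map_mul (QuotientGroup.mk' N), map_mul (QuotientGroup.mk' N),
          map_mul (QuotientGroup.mk' N), map_inv (QuotientGroup.mk' N), map_inv (QuotientGroup.mk' N),
          map_inv (QuotientGroup.mk' N), hm]
        simp only [map_mul, map_inv, MulEquiv.apply_symm_apply, map_one, ← hu, hs, inv_inv,
          mul_inv_cancel]
      have hxi : orderOf x⁻¹ = 3 := by rw [orderOf_inv, hx]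
      obtain ⟨g, hgF, hg⟩ := h.coset_conj hxi (F := F) ⟨hFinv.1, inv_mem hFinv.2⟩ hz
      refine ⟨g⁻¹ * m, mul_mem (inv_mem (hFM hgF)) m.2, ?_⟩
      have ht : g⁻¹ * (m : G) * x * (g⁻¹ * (m : G))⁻¹ = x⁻¹ := by
        calc g⁻¹ * (m : G) * x * (g⁻¹ * (m : G))⁻¹ = g⁻¹ * ((m : G) * x * (m : G)⁻¹) * g := by group
          _ = x⁻¹ := by rw [← hg]; group
      refine ⟨?_, ht⟩
      set t := g⁻¹ * (m : G) with ht'
      have htM : t ∈ M := mul_mem (inv_mem (hFM hgF)) m.2
      have htt : t * t * x * (t * t)⁻¹ = x := by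
        calc t * t * x * (t * t)⁻¹ = t * (t * x * t⁻¹) * t⁻¹ := by group
          _ = t * x⁻¹ * t⁻¹ := by rw [ht]
          _ = (t * x * t⁻¹)⁻¹ := by group
          _ = x := by rw [ht, inv_inv]
      have hmem : t * t ∈ zpowers x := by
        by_contra hcon
        refine hne (h.pair_bot hx ?_ hcon hD (mul_mem htM htM))
        show x * (t * t) = t * t * x
        calc x * (t * t) = t * t * x * (t * t)⁻¹ * (t * t) := by rw [htt]
          _ = t * t * x := inv_mul_cancel_right _ _
      obtain ⟨k, hk⟩ := mem_zpowers_iff.1 hmem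
      have h1 : t * (t * t) * t⁻¹ = (t * t)⁻¹ := by
        have : t * x ^ k * t⁻¹ = (x⁻¹) ^ k := by rw [← ht, conj_zpow]
        rw [hk] at this
        rw [this, inv_zpow, hk]
      have h2 : (t * t) ^ 2 = 1 := by
        have : t * t = (t * t)⁻¹ := by rw [← h1]; group
        rw [pow_two]; nth_rw 1 [this]; exact inv_mul_cancel _
      have h3' : (t * t) ^ 3 = 1 := by
        rw [← hk, ← zpow_natCast, ← zpow_mul, mul_comm, zpow_mul, zpow_natCast,
          pow_three_of_orderOf hx, one_zpow]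
      have ht2 : t ^ 2 = 1 := by
        rw [pow_two]; rw [pow_succ, h2, one_mul] at h3'; exact h3'
      haveI : Fact (Nat.Prime 2) := ⟨Nat.prime_two⟩
      refine orderOf_eq_prime ht2 fun e => inv_ne_self hx ?_
      rw [← ht, e]; group
  · right
    have hN3 : ¬ 3 ∣ Nat.card N := fun hd => by
      obtain ⟨n, hn⟩ := exists_prime_orderOf_dvd_card' 3 hd
      have : orderOf n ∣ 2 := orderOf_dvd_of_pow_eq_one (Subtype.ext (by simpa using hexp n n.2))
      rw [hn] at this; norm_num at this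
    have hN2 : IsPGroup 2 N := fun n => ⟨1, Subtype.ext (by simpa using hexp n n.2)⟩
    haveI : IsSimpleGroup (M ⧸ N) := e.isSimpleGroup
    have h60 : Nat.card (M ⧸ N) = 60 := by
      rw [Nat.card_congr e.toEquiv, nat_card_alternatingGroup, Nat.card_fin]; rfl
    obtain ⟨hcard, hAM, hMA⟩ := hpush N hN
    have hMcard : Nat.card M = 60 * Nat.card (N.map M.subtype) := by
      rw [card_eq_card_quotient_mul_card_subgroup N, h60, hcard]
    set A := N.map M.subtype with hA
    obtain ⟨hx1', hx3⟩ := hy1 N hN3 ⟨x, hxM⟩ hx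
    have hDA : D ≤ A := by
      intro d hd
      haveI : ((D.subgroupOf M).map (QuotientGroup.mk' N)).Normal :=
        Normal.map (normal_subgroupOf_of_le_normalizer le_rfl) _ (QuotientGroup.mk'_surjective N)
      rcases this.eq_bot_or_eq_top with hb | ht
      · exact ⟨⟨d, le_normalizer hd⟩, (QuotientGroup.eq_one_iff _).1
          ((eq_bot_iff_forall _).1 hb _ ⟨⟨d, le_normalizer hd⟩, hd, rfl⟩), rfl⟩
      · exfalso
        have h3 := hdvd N D le_normalizer hD.1
        rw [ht, card_top, h60] at h3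
        norm_num at h3
    refine ⟨?_, (hN2.map M.subtype).to_le hDA, A, hDA, hAM, ⟨by rw [hcard]; exact hN3, hMA hxM⟩,
      hN2.map M.subtype, hMA, hMcard, ?_, ?_⟩
    · exact (Dvd.intro 12 rfl : 5 ∣ 5 * 12).trans ((Dvd.intro _ hMcard.symm).trans
        (card_subgroup_dvd_card M))
    · obtain ⟨a, ha1, haa, hab, hyb⟩ := alt_four (e (QuotientGroup.mk' N ⟨x, hxM⟩))
        (by rw [← map_pow, hx3, map_one]) (fun h0 => hx1' (e.injective (h0.trans (map_one e).symm)))
      set y := e (QuotientGroup.mk' N ⟨x, hxM⟩) with hy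
      set b := y * a * y⁻¹ with hb
      have hbb : b * b = 1 := by rw [hb, conj_mul, haa]; group
      have hV2 : IsPGroup 2 (closure ({a, b} : Set (alternatingGroup (Fin 5)))) := by
        haveI : Fact (Nat.Prime 2) := ⟨Nat.prime_two⟩
        exact Coprime.isPGroup_closure_pair hab (by rw [pow_two, haa]) (by rw [pow_two, hbb])
      set V := closure ({a, b} : Set (alternatingGroup (Fin 5))) with hV
      set π : M →* alternatingGroup (Fin 5) := e.toMonoidHom.comp (QuotientGroup.mk' N) with hπ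
      have hπs : Function.Surjective π := e.surjective.comp (QuotientGroup.mk'_surjective N)
      have hker : π.ker = N := by
        ext m
        rw [MonoidHom.mem_ker, ← QuotientGroup.eq_one_iff]
        exact ⟨fun h0 => e.injective (h0.trans (map_one e).symm), fun h0 => by
          rw [hπ, MonoidHom.comp_apply, QuotientGroup.mk'_apply, h0, map_one]⟩
      refine ⟨(V.comap π).map M.subtype, ⟨?_, ?_⟩, ?_⟩
      · have hp : IsPGroup 2 (V.comap π) := hV2.comap_of_ker_isPGroup π (hker.symm ▸ hN2)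
        obtain ⟨k, hk⟩ := haveI : Fact (Nat.Prime 2) := ⟨Nat.prime_two⟩; IsPGroup.iff_card.1 hp
        rw [card_map_of_injective M.subtype_injective, hk]
        exact fun hd => absurd (Nat.prime_three.dvd_of_dvd_pow hd) (by norm_num)
      · have hyV : V.map (MulAut.conj y).toMonoidHom ≤ V := by
          rw [hV, MonoidHom.map_closure, closure_le]
          rintro _ ⟨s, hs, rfl⟩
          rcases hs with rfl | hs
          · exact subset_closure (Set.mem_insert_of_mem _ rfl)
          · rw [Set.mem_singleton_iff.1 hs]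
            show y * b * y⁻¹ ∈ _
            rw [hyb]
            exact mul_mem (subset_closure (Set.mem_insert _ _))
              (subset_closure (Set.mem_insert_of_mem _ rfl))
        refine mem_normalizer_of_conj_mem (fun s hs => ?_)
        obtain ⟨m, hm, rfl⟩ := hs
        refine ⟨⟨x, hxM⟩ * m * ⟨x, hxM⟩⁻¹, ?_, by simp⟩
        show π _ ∈ V
        rw [map_mul, map_mul, map_inv]
        exact hyV ⟨π m, hm, rfl⟩
      · refine lt_of_le_of_ne (map_mono (hker ▸ (ker_le_comap π V))) fun heq => ha1 ?_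
        obtain ⟨m, hm⟩ := hπs a
        have : m ∈ V.comap π := by
          rw [mem_comap, hm]; exact subset_closure (Set.mem_insert _ _)
        have hmN : m ∈ N := by
          have h0 : (m : G) ∈ N.map M.subtype := by
            have h00 := mem_map_of_mem M.subtype this
            rw [← heq] at h00
            exact h00
          obtain ⟨n, hn, hnm⟩ := h0
          rwa [← M.subtype_injective hnm]
        rw [← hker, MonoidHom.mem_ker, hm] at hmN
        exact hmN
    · intro L hL hAL hLM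
      set L' := (L.subgroupOf M).map (QuotientGroup.mk' N) with hL'
      have hNL : N ≤ L.subgroupOf M := fun n hn => hAL ⟨n, hn, rfl⟩
      have hcL : Nat.card L = Nat.card L' * Nat.card N := by
        rw [← Nat.card_congr (subgroupOfEquivOfLe hLM).toEquiv, ← Nat.card_congr
          (subgroupOfEquivOfLe hNL).toEquiv, hL']
        set f := (QuotientGroup.mk' N).comp (L.subgroupOf M).subtype with hf
        have hk : f.ker = N.subgroupOf (L.subgroupOf M) := by
          ext u; simp [hf, mem_subgroupOf, QuotientGroup.eq_one_iff]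
        have hr : f.range = (L.subgroupOf M).map (QuotientGroup.mk' N) := by
          rw [hf, MonoidHom.range_comp, range_subtype]
        rw [← hr, ← hk, ← Nat.card_congr (QuotientGroup.quotientKerEquivRange f).toEquiv]
        exact card_eq_card_quotient_mul_card_subgroup _
      have h1 := h.card_inv hx hL
      have h2 := h.card_inv hx (D := A) ⟨by rw [hcard]; exact hN3, hMA hxM⟩
      rw [hcard] at h2
      rw [hcL, Nat.mul_mod, h2, mul_one, Nat.mod_mod] at h1
      have hd : Nat.card L' ∣ 60 := h60 ▸ card_subgroup_dvd_card L'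
      have hle := Nat.le_of_dvd (by norm_num) hd
      rw [hcard, hcL]
      rcases (show Nat.card L' = 1 ∨ Nat.card L' = 4 ∨ Nat.card L' = 10 by
        interval_cases hh : Nat.card L' <;> omega) with e' | e' | e'
      · left; rw [e', one_mul]
      · right; rw [e']
      · exfalso
        refine alt_not_ten e L' e' hx3 hx1' (mem_normalizer_of_conj_mem ?_)
        rintro c hc
        exact himg N L ⟨x, hxM⟩ hL.2 c hc
  · exfalso
    haveI : IsSimpleGroup (Matrix.ProjectiveSpecialLinearGroup (Fin 2) (ZMod 7)) :=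
      haveI : Fact (Nat.Prime 7) := ⟨by norm_num⟩
      LinGroup.isSimpleGroup_PSL_fin le_rfl (fun _ => by rw [Nat.card_zmod]; norm_num)
    haveI : IsSimpleGroup M := e.isSimpleGroup
    haveI : (D.subgroupOf M).Normal := normal_subgroupOf_of_le_normalizer le_rfl
    rcases this.eq_bot_or_eq_top with hb | ht
    · rw [subgroupOf_eq_bot, disjoint_iff, inf_eq_left.2 le_normalizer] at hb
      exact hne hb
    · have hle : M ≤ D := subgroupOf_eq_top.1 ht
      exact hD.1 ((hXc ▸ card_subgroup_dvd_card X).trans (card_dvd_of_le hle))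

end Cfsg.Agent.Lib.OneClassNine
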