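import Mathlib

/-!
# The finite searches

An item is a triple (weight, linear, cubic) attached to a nonprincipal character that does not
vanish on the 3-elements.
-/

set_option autoImplicit false

namespace Cfsg.Agent.Lib.OneClassNine.Arith

/-- The data of one character: squared value, degree times value, cubed value times codegree. -/
abbrev Item := ℕ × ℤ × ℤ

/-- Is there a multiset of items from the list with weight u, linear sum s and cubic sum at most p?
The bound m cuts branches: a cubic term is at least minus m times the weight. -/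
def feas (m : ℤ) : List Item → ℕ → ℤ → ℤ → Bool
  | [], u, s, p => decide (u = 0 ∧ s = 0 ∧ 0 ≤ p)
  | (w, l, c) :: L, u, s, p => decide (0 ≤ p + m * u) &&
      (List.range (u / w + 1)).any fun k => feas m L (u - k * w) (s - k * l) (p - k * c)

theorem sum_split {β : Type*} [AddCommMonoid β] (g : Item → β) (hd : Item) (xs : List Item) :
    (xs.map g).sum = xs.count hd • g hd + ((xs.filter fun x => !(x == hd)).map g).sum := by
  induction xs with
  | nil => simp
  | cons x xs ih =>
    by_cases h : x = hd
    · subst h
      simp [ih, add_smul, add_assoc, add_comm, add_left_comm]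
    · simp [h, ih, add_left_comm]

theorem feas_sound (m : ℤ) : ∀ (L : List Item), (∀ it ∈ L, -(m * it.1) ≤ it.2.2) →
    (∀ it ∈ L, 0 < it.1) → ∀ (xs : List Item), (∀ x ∈ xs, x ∈ L) → ∀ (u : ℕ) (s p : ℤ),
    (xs.map (·.1)).sum = u → (xs.map (·.2.1)).sum = s → (xs.map (·.2.2)).sum ≤ p →
    feas m L u s p = true := by
  intro L
  induction L with
  | nil =>
    intro _ _ xs hxs u s p hu hs hp
    have : xs = [] := List.eq_nil_iff_forall_not_mem.2 fun x hx => by simpa using hxs x hx
    subst this
    simp only [List.map_nil, List.sum_nil] at hu hs hp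
    simp [feas, ← hu, ← hs, hp]
  | cons hd L ih =>
    intro hm hw xs hxs u s p hu hs hp
    obtain ⟨w, l, c⟩ := hd
    have hbound : ∀ (ys : List Item), (∀ y ∈ ys, y ∈ (w, l, c) :: L) →
        -(m * ((ys.map (·.1)).sum : ℕ)) ≤ (ys.map (·.2.2)).sum := by
      intro ys hys
      induction ys with
      | nil => simp
      | cons y ys ihy =>
        have h1 := hm y (hys y (List.mem_cons_self ..))
        have h2 := ihy fun z hz => hys z (List.mem_cons_of_mem _ hz)
        simp only [List.map_cons, List.sum_cons, Nat.cast_add, mul_add]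
        linarith
    set k := xs.count (w, l, c) with hk
    set ys := xs.filter fun x => !(x == (w, l, c)) with hys
    have e1 := sum_split (fun it => it.1) (w, l, c) xs
    have e2 := sum_split (fun it => it.2.1) (w, l, c) xs
    have e3 := sum_split (fun it => it.2.2) (w, l, c) xs
    simp only [smul_eq_mul, nsmul_eq_mul, ← hk, ← hys] at e1 e2 e3
    simp only [feas, Bool.and_eq_true, decide_eq_true_eq, List.any_eq_true, List.mem_range]
    refine ⟨?_, k, ?_, ih (fun it h => hm it (List.mem_cons_of_mem _ h))
      (fun it h => hw it (List.mem_cons_of_mem _ h)) ys ?_ _ _ _ ?_ ?_ ?_⟩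
    · have := hbound xs hxs
      rw [hu] at this
      linarith
    · have hwpos : 0 < w := hw (w, l, c) (List.mem_cons_self ..)
      rw [Nat.lt_succ_iff, Nat.le_div_iff_mul_le hwpos]
      omega
    · intro y hy
      obtain ⟨hy1, hy2⟩ := List.mem_filter.1 hy
      rcases List.mem_cons.1 (hxs y hy1) with e | e
      · simp [e] at hy2
      · exact e
    · omega
    · linarith
    · linarith

/-- Upper bound for the q-type contribution. -/
def wqB (a Q : ℕ) : ℕ :=
  if Q % 3 = 1 then
    max (if Q ≤ 3 * 2 ^ a then 6 * (Q - 1) else 0) (if 32 * Q ≤ 3 * 2 ^ a then 3 * (4 * Q - 1) else 0)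
  else 0

/-- Upper bound for the 2-type contribution. -/
def w2B (a Q : ℕ) : ℕ :=
  if a % 2 = 0 then (if 2 ^ a ≤ 3 * Q then 6 * (2 ^ a - 1) else 0)
  else (if 2 ^ a ≤ 6 * Q then 3 * (2 ^ (a - 1) - 1) else 0)

/-- A bound for the count. -/
def cB (a Q : ℕ) : ℕ := 34 + wqB a Q + w2B a Q

/-- The candidate values of a. -/
def vals : List ℤ := [1, -1, 2, -2]

/-- The condition on a pair (degree, value). -/
def okItem (M : ℕ) (d : ℕ) (v : ℤ) : Bool :=
  decide (8 ≤ d) && decide (M % d = 0) && decide (d * d < 9 * M) && decide (((d : ℤ) - v) % 9 = 0)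

/-- The item of a degree and a value. -/
def mkItem (M : ℕ) (d : ℕ) (v : ℤ) : Item := (v.natAbs * v.natAbs, v * d, v * v * v * ((M / d : ℕ) : ℤ))

/-- A bound for the degrees. -/
def degB (M : ℕ) : ℕ :=
  if 9 * M ≤ 500 * 500 then 501 else if 9 * M ≤ 2000 * 2000 then 2001 else 9 * M + 1

/-- All possible items. -/
def items (M : ℕ) : List Item :=
  (List.range (degB M)).flatMap fun d =>
    if 8 ≤ d ∧ M % d = 0 then
      vals.filterMap fun v => if okItem M d v then some (mkItem M d v) else none
    else []

/-- The filters satisfied by the true pair. -/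
def cand (a Q : ℕ) : Bool :=
  decide (2 ^ (a - 3) * Q % 9 = 1) && decide (Q % 2 = 1) && !decide (Q % 3 = 0) &&
    !decide (Q % 5 = 0) && decide (2 ^ a * Q ≤ 72 * cB a Q) &&
    (decide (Q % 9 = 1 ∨ Q % 9 = 8) || (List.range 75).any fun d => decide (2 ≤ d ∧ Q % (d * d) = 0)) &&
    (List.range 75).all fun d => decide (2 ≤ d → Q % d = 0 → d ^ 6 % Q = 0)

/-- A candidate has no solution, save two exceptions. -/
def check (a Q : ℕ) : Bool :=
  !cand a Q || decide (a = 6 ∧ (Q = 17 ∨ Q = 89)) ||
    !feas ((2 ^ a * Q / 8 : ℕ) : ℤ) (items (2 ^ a * Q)) 8 (-1)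
      (9 * (cB a Q : ℤ) - ((2 ^ a * Q : ℕ) : ℤ))

/-- All candidates for one exponent. -/
def checkAll (a : ℕ) : Bool := (List.range 4100).all fun Q => check a Q

theorem check_3 : checkAll 3 = true := by decide +kernel
theorem check_4 : checkAll 4 = true := by decide +kernel
theorem check_5 : checkAll 5 = true := by decide +kernel
theorem check_6 : checkAll 6 = true := by decide +kernel
theorem check_7 : checkAll 7 = true := by decide +kernel
theorem check_8 : checkAll 8 = true := by decide +kernel
theorem check_9 : checkAll 9 = true := by decide +kernel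
theorem check_10 : checkAll 10 = true := by decide +kernel
theorem check_11 : checkAll 11 = true := by decide +kernel
theorem check_12 : checkAll 12 = true := by decide +kernel

end Cfsg.Agent.Lib.OneClassNine.Arith
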