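import Mathlib

/-!
# The finite searches for the prime five

Degrees up to 200 are followed exactly, larger ones only through congruences.
-/

set_option autoImplicit false

namespace Cfsg.Agent.Lib.OneClassNine.Five

/-- An item: weight, linear term, cubic term scaled by 16000, tag. -/
abbrev Item := ℕ × ℤ × ℤ × ℕ

/-- The tag of a small degree. -/
def tag (d : ℕ) : ℕ :=
  if d = 8 ∨ d = 16 then 0 else if d = 64 then 1 else if d = 100 then 16 else if d = 125 then 256
  else 4096

/-- The item of a degree and a value. -/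
def mkItem (d : ℕ) (v : ℤ) : Item :=
  (v.natAbs * v.natAbs, v * d, v * v * v * ((16000 / d : ℕ) : ℤ), tag d)

/-- The condition on a small pair. -/
def okItem (d : ℕ) (v : ℤ) : Bool :=
  decide (8 ≤ d) && decide (d ≤ 200) && decide (16000 % d = 0) && decide (((d : ℤ) - v) % 9 = 0)

/-- All small items. -/
def items : List Item :=
  (List.range 201).flatMap fun d =>
    ([1, -1, 2, -2] : List ℤ).filterMap fun v => if okItem d v then some (mkItem d v) else none

/-- The test at a leaf: the weight left for large degrees, and the sums over small degrees. -/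
def bad (w : ℕ) (l p : ℤ) (c : ℕ) : Bool :=
  if w = 0 then decide (l = -1 ∧ p ≤ -8584 ∧ c ≠ 273)
  else if w = 1 then decide ((l + 1) % 8 = 0 ∧
    ((-1 - l > 200 ∧ p ≤ -8584) ∨ (-1 - l < -200 ∧ p - 32 ≤ -8584)))
  else decide ((l + 1) % (if w < 4 then 8 else 4) = 0 ∧ p - 128 * w ≤ -8584)

/-- The search. -/
def feas : List Item → ℕ → ℤ → ℤ → ℕ → Bool
  | [], u, l, p, c => bad u l p c
  | (w, x, y, z) :: L, u, l, p, c => decide (p - 2000 * u ≤ -8584) &&
      (List.range (u / w + 1)).any fun k =>
        feas L (u - k * w) (l + k * x) (p + k * y) (c + k * z)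

theorem search : feas items 8 0 0 0 = false := by decide +kernel

theorem items_spec : ∀ it ∈ items, 0 < it.1 ∧ -(2000 * (it.1 : ℤ)) ≤ it.2.2.1 := by decide +kernel

/-- Candidates for the values at an inverting involution. -/
def root (w v : ℤ) : Bool :=
  (List.range 200).all fun r =>
    !(decide ((r : ℤ) * r = 8000 + 125 * w * w + 80 * v * v - 64 * (1 + v + w) * (1 + v + w)) &&
      decide (2 ^ 15 * 5 ^ 15 % r = 0 ∧ 0 < r))

theorem no_root : ((List.range 17).all fun i => (List.range 25).all fun j =>
    root ((i : ℤ) - 8) ((j : ℤ) - 12)) = true := by decide +kernel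

theorem bad_bound {w : ℕ} {l p : ℤ} {c : ℕ} (h : bad w l p c = true) :
    p - 2000 * w ≤ -8584 := by
  unfold bad at h
  split_ifs at h <;> rw [decide_eq_true_eq] at h <;> omega

theorem sum_split {β : Type*} [AddCommMonoid β] (g : Item → β) (hd : Item) (xs : List Item) :
    (xs.map g).sum = xs.count hd • g hd + ((xs.filter fun x => !(x == hd)).map g).sum := by
  induction xs with
  | nil => simp
  | cons x xs ih =>
    by_cases h : x = hd
    · subst h
      simp [ih, add_smul, add_assoc, add_comm, add_left_comm]
    · simp [h, ih, add_left_comm]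

theorem feas_sound : ∀ (L : List Item), (∀ it ∈ L, 0 < it.1 ∧ -(2000 * (it.1 : ℤ)) ≤ it.2.2.1) →
    ∀ (xs : List Item), (∀ x ∈ xs, x ∈ L) → ∀ (u : ℕ) (l p : ℤ) (c : ℕ),
    (xs.map (·.1)).sum ≤ u →
    bad (u - (xs.map (·.1)).sum) (l + (xs.map (·.2.1)).sum) (p + (xs.map (·.2.2.1)).sum)
      (c + (xs.map (·.2.2.2)).sum) = true →
    feas L u l p c = true := by
  intro L
  induction L with
  | nil =>
    intro _ xs hxs u l p c _ hb
    have : xs = [] := List.eq_nil_iff_forall_not_mem.2 fun x hx => by simpa using hxs x hx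
    subst this
    simpa [feas] using hb
  | cons hd L ih =>
    intro hL xs hxs u l p c hu hb
    obtain ⟨w, x, y, z⟩ := hd
    have hbound : ∀ (ys : List Item), (∀ q ∈ ys, q ∈ (w, x, y, z) :: L) →
        -(2000 * ((ys.map (·.1)).sum : ℕ) : ℤ) ≤ (ys.map (·.2.2.1)).sum := by
      intro ys hys
      induction ys with
      | nil => simp
      | cons q ys ihy =>
        have h1 := (hL q (hys q (List.mem_cons_self ..))).2
        have h2 := ihy fun r hr => hys r (List.mem_cons_of_mem _ hr)
        simp only [List.map_cons, List.sum_cons, Nat.cast_add, mul_add]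
        linarith
    set k := xs.count (w, x, y, z) with hk
    set ys := xs.filter fun q => !(q == (w, x, y, z)) with hys
    have e1 := sum_split (fun it => it.1) (w, x, y, z) xs
    have e2 := sum_split (fun it => it.2.1) (w, x, y, z) xs
    have e3 := sum_split (fun it => it.2.2.1) (w, x, y, z) xs
    have e4 := sum_split (fun it => it.2.2.2) (w, x, y, z) xs
    simp only [smul_eq_mul, nsmul_eq_mul, ← hk, ← hys] at e1 e2 e3 e4
    simp only [feas, Bool.and_eq_true, decide_eq_true_eq, List.any_eq_true, List.mem_range]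
    have hp := bad_bound hb
    refine ⟨?_, k, ?_, ih (fun it h => hL it (List.mem_cons_of_mem _ h)) ys ?_ _ _ _ _ ?_ ?_⟩
    · have := hbound xs hxs
      omega
    · have hwpos : 0 < w := (hL (w, x, y, z) (List.mem_cons_self ..)).1
      rw [Nat.lt_succ_iff, Nat.le_div_iff_mul_le hwpos]
      omega
    · intro q hq
      obtain ⟨hq1, hq2⟩ := List.mem_filter.1 hq
      rcases List.mem_cons.1 (hxs q hq1) with e | e
      · simp [e] at hq2
      · exact e
    · omega
    · rw [Nat.sub_sub, ← e1, add_assoc, ← e2,
        add_assoc, ← e3, add_assoc, ← e4]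
      exact hb

end Cfsg.Agent.Lib.OneClassNine.Five
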