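import Mathlib
import Cfsg.Agent.Lib.SmallGroups.Basic
import Cfsg.Agent.Lib.SmallGroups.InvolutionParity

/-!
# No simple groups of order 9792 or 51264
-/

set_option autoImplicit false
set_option linter.style.haveILetI false

namespace Cfsg.Agent.Lib.OneClassNine

open Subgroup
open Cfsg.Agent.Lib

variable {G : Type*} [Group G] [Finite G] [IsSimpleGroup G]

theorem no_order_eightynine (hG : ¬ IsMulCommutative G) (h : Nat.card G = 9 * 2 ^ 6 * 89) :
    False := by
  haveI : Fact (Nat.Prime 89) := ⟨by norm_num⟩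
  have hn := SmallGroups.card_sylow_mem hG (p := 89) (k := 1) (m := 576)
    (by rw [h]; norm_num) (by norm_num) (by norm_num)
  rw [show (Nat.divisors 576).filter (fun d => d % 89 = 1 ∧ d ≠ 1) = ∅ by decide +kernel] at hn
  exact absurd hn (Finset.notMem_empty _)

theorem no_order_seventeen (hG : ¬ IsMulCommutative G) (h : Nat.card G = 9 * 2 ^ 6 * 17) :
    False := by
  classical
  haveI := Fintype.ofFinite G
  haveI : Fact (Nat.Prime 17) := ⟨by norm_num⟩
  haveI : Fact (Nat.Prime 2) := ⟨Nat.prime_two⟩
  have hn := SmallGroups.card_sylow_mem hG (p := 17) (k := 1) (m := 576)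
    (by rw [h]; norm_num) (by norm_num) (by norm_num)
  rw [show (Nat.divisors 576).filter (fun d => d % 17 = 1 ∧ d ≠ 1) = {18} by decide +kernel,
    Finset.mem_singleton] at hn
  let P : Sylow 17 G := default
  have hP : Nat.card (P : Subgroup G) = 17 := by
    have := SmallGroups.card_sylow_eq P (k := 1) (m := 576) (by rw [h]; norm_num) (by norm_num)
    simpa using this
  obtain ⟨g, hgP, hgo⟩ : ∃ g ∈ (P : Subgroup G), orderOf g = 17 := by
    obtain ⟨g, hg⟩ := exists_prime_orderOf_dvd_card' (G := (P : Subgroup G)) 17 (by rw [hP])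
    exact ⟨g, g.2, by rw [orderOf_coe, hg]⟩
  have hPz : zpowers g = (P : Subgroup G) := eq_of_le_of_card_ge (zpowers_le.2 hgP)
    (by rw [Nat.card_zpowers, hgo, hP])
  set N := normalizer ((P : Subgroup G) : Set G) with hN
  have hNc : Nat.card N = 544 := by
    have h1 := N.index_mul_card
    have hidx : Nat.card (Sylow 17 G) = (normalizer ((P : Subgroup G) : Set G)).index :=
      P.card_eq_index_normalizer
    rw [hN, ← hidx, hn, h] at h1
    rw [hN]; omega
  set C := centralizer ({g} : Set G) with hC
  have hCN : C ≤ N := by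
    intro c hc
    have hcc : c * g = g * c := mem_centralizer_singleton_iff.1 hc
    rw [hN, mem_normalizer_iff]
    intro s
    rw [← hPz]
    constructor
    · intro hs
      obtain ⟨k, rfl⟩ := mem_zpowers_iff.1 hs
      rw [← conj_zpow, hcc, mul_inv_cancel_right]
      exact zpow_mem (mem_zpowers _) k
    · intro hs
      obtain ⟨k, hk⟩ := mem_zpowers_iff.1 hs
      have : s = c⁻¹ * g ^ k * c := by rw [hk]; group
      rw [this, mul_assoc, ← ((Commute.zpow_right (show Commute c g from hcc) k).eq),
        inv_mul_cancel_left]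
      exact zpow_mem (mem_zpowers _) k
  obtain ⟨t, htC, ht⟩ : ∃ t ∈ C, orderOf t = 2 := by
    have hbound : Nat.card N ≤ Nat.card C * 16 := by
      rw [Nat.card_eq_fintype_card, Fintype.card_subtype, Nat.card_eq_fintype_card, Fintype.card_subtype]
      refine (Finset.card_le_mul_card_image (f := fun m => m * g * m⁻¹) _
        (Finset.univ.filter (· ∈ C)).card ?_).trans (Nat.mul_le_mul_left _ ?_)
      · intro y hy
        obtain ⟨m₀, -, rfl⟩ := Finset.mem_image.1 hy
        refine Finset.card_le_card_of_injOn (fun m => m₀⁻¹ * m) ?_ (fun u _ v _ e => mul_left_cancel e)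
        intro m hm
        simp only [Finset.coe_filter, Finset.mem_filter, Finset.mem_univ, true_and,
          Set.mem_setOf_eq] at hm ⊢
        rw [hC, mem_centralizer_singleton_iff]
        calc m₀⁻¹ * m * g = m₀⁻¹ * (m * g * m⁻¹) * m := by group
          _ = g * (m₀⁻¹ * m) := by rw [hm.2]; group
      · have hsub : (Finset.univ.filter (· ∈ N)).image (fun m => m * g * m⁻¹) ⊆
            (Finset.univ.filter (fun y => y ∈ (P : Subgroup G))).erase 1 := by
          intro y hy
          obtain ⟨m, hm, rfl⟩ := Finset.mem_image.1 hy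
          refine Finset.mem_erase.2 ⟨fun e => ?_, Finset.mem_filter.2
            ⟨Finset.mem_univ _, ((mem_normalizer_iff.1 (Finset.mem_filter.1 hm).2) g).1 hgP⟩⟩
          have h1 : g = 1 := by
            calc g = m⁻¹ * (m * g * m⁻¹) * m := by group
              _ = 1 := by rw [e]; group
          rw [h1, orderOf_one] at hgo; omega
        refine (Finset.card_le_card hsub).trans ?_
        rw [Finset.card_erase_of_mem (by simp [one_mem]), ← Fintype.card_subtype,
          ← Nat.card_eq_fintype_card, hP]
    have hd : Nat.card C ∣ 2 ^ 5 * 17 := by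
      have := card_dvd_of_le hCN
      rwa [hNc] at this
    have h2 : 2 ∣ Nat.card C := by
      by_contra hodd
      have hc : Nat.Coprime (Nat.card C) (2 ^ 5) :=
        Nat.Coprime.pow_right 5 ((Nat.Prime.coprime_iff_not_dvd Nat.prime_two).2 hodd).symm
      have := Nat.le_of_dvd (by norm_num) (hc.dvd_of_dvd_mul_left hd)
      omega
    obtain ⟨t, ht⟩ := exists_prime_orderOf_dvd_card' (G := C) 2 h2
    exact ⟨t, t.2, by rw [orderOf_coe, ht]⟩
  have htP : t • P = P := Sylow.smul_eq_iff_mem_normalizer.2 (hCN htC)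
  have htg : Commute t g := mem_centralizer_singleton_iff.1 htC
  have hfix := SmallGroups.card_fixedBy_mod_four hG (X := Sylow 17 G) ht
  rw [hn] at hfix
  obtain ⟨Q, hQt, hQ⟩ : ∃ Q : Sylow 17 G, t • Q = Q ∧ Q ≠ P := by
    by_contra hcon
    push_neg at hcon
    have : MulAction.fixedBy (Sylow 17 G) t = {P} := by
      ext Q
      exact ⟨fun hQ => hcon Q hQ, fun hQ => by rw [Set.mem_singleton_iff.1 hQ]; exact htP⟩
    rw [this, Nat.card_coe_set_eq, Set.ncard_singleton] at hfix
    omega
  have hall : ∀ R : Sylow 17 G, t • R = R := by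
    haveI := Fintype.ofFinite (Sylow 17 G)
    have hinj : Function.Injective (fun i : Fin 17 => (g ^ (i : ℕ)) • Q) := by
      intro i j hij
      by_contra hne
      have hmem : ∃ k : ℤ, ¬ (17 : ℤ) ∣ k ∧ g ^ k ∈ normalizer ((Q : Subgroup G) : Set G) := by
        refine ⟨(j : ℤ) - i, fun hd => hne (Fin.ext ?_), Sylow.smul_eq_iff_mem_normalizer.1 ?_⟩
        · obtain ⟨m, hm⟩ := hd
          have := i.2; have := j.2
          omega
        · have h0 : (g ^ (i : ℕ)) • Q = (g ^ (j : ℕ)) • Q := hij
          rw [sub_eq_neg_add, zpow_add, zpow_neg, zpow_natCast, zpow_natCast, mul_smul, ← h0,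
            inv_smul_smul]
      obtain ⟨k, hk, hkN⟩ := hmem
      have hp : IsPGroup 17 (zpowers (g ^ k)) :=
        P.2.to_le (zpowers_le.2 (zpow_mem hgP k))
      have hkQ : g ^ k ∈ (Q : Subgroup G) := by
        have h1 := IsPGroup.inf_normalizer_sylow hp Q
        exact (Subgroup.mem_inf.1 (h1.le (Subgroup.mem_inf.2 ⟨mem_zpowers _, hkN⟩))).2
      have hne1 : g ^ k ≠ 1 := fun e => hk (by
        have := orderOf_dvd_iff_zpow_eq_one.2 e
        rwa [hgo] at this)
      have ho : orderOf (g ^ k) = 17 := by
        refine orderOf_eq_prime ?_ hne1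
        rw [← zpow_natCast, ← zpow_mul, mul_comm, zpow_mul, zpow_natCast, ← hgo, pow_orderOf_eq_one,
          one_zpow]
      have hQc : Nat.card (Q : Subgroup G) = 17 := by
        exact (Q.card_eq_multiplicity.trans P.card_eq_multiplicity.symm).trans hP
      refine hQ (Sylow.ext ?_)
      rw [← eq_of_le_of_card_ge (zpowers_le.2 hkQ) (by rw [Nat.card_zpowers, ho, hQc]),
        ← eq_of_le_of_card_ge (zpowers_le.2 (zpow_mem hgP k) : _ ≤ (P : Subgroup G))
          (by rw [Nat.card_zpowers, ho, hP])]
    set O := Finset.univ.image (fun i : Fin 17 => (g ^ (i : ℕ)) • Q) with hO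
    have hPO : P ∉ O := by
      intro hmem
      obtain ⟨i, -, e⟩ := Finset.mem_image.1 hmem
      refine hQ ?_
      have hP' : (g ^ (i : ℕ))⁻¹ • P = P := Sylow.smul_eq_iff_mem_normalizer.2
        (inv_mem (le_normalizer (pow_mem hgP _)))
      rw [← hP', ← e, inv_smul_smul]
    have heq : insert P O = Finset.univ := by
      apply Finset.eq_univ_of_card
      rw [Finset.card_insert_of_notMem hPO, hO, Finset.card_image_of_injective _ hinj,
        Finset.card_univ, Fintype.card_fin, ← Nat.card_eq_fintype_card, hn]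
    intro R
    rcases Finset.mem_insert.1 (heq ▸ Finset.mem_univ R : R ∈ insert P O) with rfl | hR
    · exact htP
    · obtain ⟨i, -, rfl⟩ := Finset.mem_image.1 hR
      rw [← mul_smul, ((htg.pow_right _).eq), mul_smul, hQt]
  set f := MulAction.toPermHom G (Sylow 17 G) with hf
  have htk : t ∈ f.ker := MonoidHom.mem_ker.2 (Equiv.ext fun R => hall R)
  rcases (inferInstance : f.ker.Normal).eq_bot_or_eq_top with hb | htop
  · rw [hb, mem_bot] at htk
    rw [htk, orderOf_one] at ht; omega
  · have hnorm : N = ⊤ := eq_top_iff.2 fun x _ => by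
      have hx : x ∈ f.ker := htop ▸ mem_top x
      exact Sylow.smul_eq_iff_mem_normalizer.1 (Equiv.ext_iff.1 (MonoidHom.mem_ker.1 hx) P)
    rw [hnorm, card_top, h] at hNc
    norm_num at hNc

end Cfsg.Agent.Lib.OneClassNine
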